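import Cfsg.Prelude.Def_Spor_Mathieu
import Cfsg.Agent.Lib.Points11.Unique
import Cfsg.Agent.Lib.GS.MillerCount
import Cfsg.Agent.Lib.GS.Sylow

/-!
# Recognition of the smallest Mathieu group by element counts

A group of order 7920 with 144 Sylow subgroups for eleven and 396 for five is simple, hence is the
smallest Mathieu group.
-/

set_option autoImplicit false
set_option linter.unusedSectionVars false
set_option linter.style.haveILetI false

namespace Cfsg.Agent.Lib.M11Recog

open Cfsg Cfsg.Agent.Lib Subgroup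
open scoped Pointwise
open Cfsg.Agent.Lib.Char

universe u

variable {G : Type u} [Group G] [Finite G]

/-- Elements of prime order `p` are counted by the Sylow subgroups, if these have order `p`. -/
theorem card_orderOf_prime {p : ℕ} [Fact p.Prime] (h : ∀ P : Sylow p G, Nat.card (P : Subgroup G) = p) :
    Nat.card {g : G // orderOf g = p} = (p - 1) * Nat.card (Sylow p G) := by
  obtain ⟨P⟩ : Nonempty (Sylow p G) := inferInstance
  have hm : p ^ (Nat.card G).factorization p = p := by
    rw [← P.card_eq_multiplicity, h P]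
  rw [GS.MillerCount.card_orderOf_eq G p, Nat.totient_prime Fact.out]
  congr 1
  exact Nat.card_congr
    { toFun := fun H => Sylow.ofCard H.1 (by rw [hm]; exact H.2.2)
      invFun := fun Q => ⟨(Q : Subgroup G), isCyclic_of_prime_card (h Q), h Q⟩
      left_inv := fun H => rfl
      right_inv := fun Q => Sylow.ext rfl }

theorem card_prime_cases (hG : Nat.card G = 7920) {p : ℕ} [Fact p.Prime] (hp : p = 5 ∨ p = 11) :
    Nat.card {g : G // orderOf g = p} = (p - 1) * Nat.card (Sylow p G) := by
  refine card_orderOf_prime fun P => ?_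
  rcases hp with rfl | rfl
  · exact O7920.card_sylow_five hG P
  · exact O7920.card_sylow_eleven hG P

private theorem five_cases : ∀ k ∈ Nat.divisors 1584, k % 5 = 1 →
    k ∈ ({1, 6, 11, 16, 36, 66, 176, 396} : Finset ℕ) := by decide +kernel

private theorem eleven_cases : ∀ k ∈ Nat.divisors 720, k % 11 = 1 →
    k ∈ ({1, 12, 45, 144} : Finset ℕ) := by decide +kernel

theorem prime_dvd_7920 {p : ℕ} (hp : p.Prime) (h : p ∣ 7920) : p = 2 ∨ p = 3 ∨ p = 5 ∨ p = 11 := by
  rw [show (7920 : ℕ) = 2 ^ 4 * 3 ^ 2 * 5 * 11 by norm_num] at h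
  rcases hp.dvd_mul.1 h with h | h
  · rcases hp.dvd_mul.1 h with h | h
    · rcases hp.dvd_mul.1 h with h | h
      · exact Or.inl ((Nat.prime_dvd_prime_iff_eq hp Nat.prime_two).1 (hp.dvd_of_dvd_pow h))
      · exact Or.inr (Or.inl ((Nat.prime_dvd_prime_iff_eq hp Nat.prime_three).1 (hp.dvd_of_dvd_pow h)))
    · exact Or.inr (Or.inr (Or.inl ((Nat.prime_dvd_prime_iff_eq hp (by norm_num)).1 h)))
  · exact Or.inr (Or.inr (Or.inr ((Nat.prime_dvd_prime_iff_eq hp (by norm_num)).1 h)))

/-- The possible numbers of Sylow subgroups for five and eleven. -/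
theorem sylow_eleven_cases (hG : Nat.card G = 7920) [Fact (Nat.Prime 11)] :
    Nat.card (Sylow 11 G) ∈ ({1, 12, 45, 144} : Finset ℕ) := by
  obtain ⟨P⟩ : Nonempty (Sylow 11 G) := inferInstance
  have h := P.card_dvd_index
  have hm := card_sylow_modEq_one 11 G
  have hi := (P : Subgroup G).card_mul_index
  rw [O7920.card_sylow_eleven hG P, hG] at hi
  rw [show (P : Subgroup G).index = 720 by omega] at h
  exact eleven_cases _ (Nat.mem_divisors.2 ⟨h, by norm_num⟩) hm

theorem sylow_five_cases (hG : Nat.card G = 7920) [Fact (Nat.Prime 5)] :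
    Nat.card (Sylow 5 G) ∈ ({1, 6, 11, 16, 36, 66, 176, 396} : Finset ℕ) := by
  obtain ⟨P⟩ : Nonempty (Sylow 5 G) := inferInstance
  have h := P.card_dvd_index
  have hm := card_sylow_modEq_one 5 G
  have hi := (P : Subgroup G).card_mul_index
  rw [O7920.card_sylow_five hG P, hG] at hi
  rw [show (P : Subgroup G).index = 1584 by omega] at h
  exact five_cases _ (Nat.mem_divisors.2 ⟨h, by norm_num⟩) hm

/-- A group of order eleven acting on a group of order `q ^ k ≤ 16` (`q ∈ {2, 3, 5}`) is trivial. -/
theorem commute_of_small [Fact (Nat.Prime 11)] {y : G} (hy : orderOf y = 11) (Q : Subgroup G)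
    (hQ : Nat.card Q ∣ 16 ∨ Nat.card Q ∣ 9 ∨ Nat.card Q ∣ 5) (hn : y ∈ normalizer (Q : Set G)) :
    ∀ x ∈ Q, y * x = x * y := by
  set F : Subgroup G := Q ⊓ centralizer ({y} : Set G) with hF
  have hle : zpowers y ≤ normalizer (Q : Set G) := zpowers_le.2 hn
  let _ : MulAction (zpowers y) Q :=
    MulAction.compHom Q ((Q.normalizerMonoidHom).comp (Subgroup.inclusion hle))
  have hsmul : ∀ (a : zpowers y) (x : Q), ((a • x : Q) : G) = (a : G) * x * (a : G)⁻¹ := fun a x => rfl
  have hfix : Nat.card (MulAction.fixedPoints (zpowers y) Q) = Nat.card F := Nat.card_congr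
    { toFun := fun x => ⟨x.1, Subgroup.mem_inf.2 ⟨x.1.2, mem_centralizer_singleton_iff.2 (by
        have h := congrArg Subtype.val (x.2 ⟨y, mem_zpowers y⟩)
        rw [hsmul] at h
        calc (x.1 : G) * y = (y * x.1 * y⁻¹) * y := by rw [h]
          _ = y * x.1 := by group)⟩⟩
      invFun := fun x => ⟨⟨x.1, (Subgroup.mem_inf.1 x.2).1⟩, fun a => Subtype.ext (by
        rw [hsmul]
        obtain ⟨j, hj⟩ := mem_zpowers_iff.1 a.2
        have hc : Commute y (x : G) := (mem_centralizer_singleton_iff.1 (Subgroup.mem_inf.1 x.2).2).symm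
        show (a : G) * (x : G) * (a : G)⁻¹ = (x : G)
        rw [← hj, (hc.zpow_left j).eq, mul_inv_cancel_right])⟩
      left_inv := fun x => rfl
      right_inv := fun x => rfl }
  have hmod := IsPGroup.card_modEq_card_fixedPoints (p := 11)
    (IsPGroup.of_card (n := 1) (by rw [Nat.card_zpowers, hy, pow_one]) : IsPGroup 11 (zpowers y)) Q
  rw [hfix] at hmod
  have hd : Nat.card F ∣ Nat.card Q := card_dvd_of_le inf_le_left
  have key : ∀ a ∈ ({1, 2, 4, 8, 16, 3, 9, 5} : Finset ℕ), ∀ b ∈ Nat.divisors a,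
      a % 11 = b % 11 → a = b := by decide +kernel
  have hsub : ∀ a ∈ Nat.divisors 16 ∪ Nat.divisors 9 ∪ Nat.divisors 5,
      a ∈ ({1, 2, 4, 8, 16, 3, 9, 5} : Finset ℕ) := by decide +kernel
  have hmem : Nat.card Q ∈ Nat.divisors 16 ∪ Nat.divisors 9 ∪ Nat.divisors 5 := by
    simp only [Finset.mem_union, Nat.mem_divisors]
    rcases hQ with h | h | h
    · exact Or.inl (Or.inl ⟨h, by norm_num⟩)
    · exact Or.inl (Or.inr ⟨h, by norm_num⟩)
    · exact Or.inr ⟨h, by norm_num⟩
  have heq := key _ (hsub _ hmem) _ (Nat.mem_divisors.2 ⟨hd, Nat.card_pos.ne'⟩) hmod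
  intro x hx
  have : F = Q := eq_of_le_of_card_ge inf_le_left heq.le
  exact (mem_centralizer_singleton_iff.1 (Subgroup.mem_inf.1 (this.symm ▸ hx : x ∈ F)).2).symm

/-- A nontrivial normal subgroup has order divisible by eleven. -/
theorem eleven_dvd (hG : Nat.card G = 7920) [Fact (Nat.Prime 11)] [Fact (Nat.Prime 5)]
    (h11 : Nat.card (Sylow 11 G) = 144) (h5 : Nat.card (Sylow 5 G) = 396)
    (N : Subgroup G) [N.Normal] (hN : N ≠ ⊥) : 11 ∣ Nat.card N := by
  by_contra hcon
  obtain ⟨q, hq, hqd⟩ := Nat.exists_prime_and_dvd (n := Nat.card N)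
    (fun h => hN (Subgroup.eq_bot_of_card_eq _ h))
  haveI := Fact.mk hq
  obtain ⟨Q⟩ : Nonempty (Sylow q N) := inferInstance
  set R : Subgroup G := (Q : Subgroup N).map N.subtype with hR
  have hRcard : Nat.card R = Nat.card (Q : Subgroup N) := card_map_of_injective N.subtype_injective
  have hfr : normalizer (R : Set G) ⊔ N = ⊤ := Sylow.normalizer_sup_eq_top Q
  have h11N : 11 ∣ Nat.card (normalizer (R : Set G)) := by
    have h := Subgroup.relIndex_sup_right (H := normalizer (R : Set G)) (K := N)
    rw [hfr, Subgroup.relIndex_top_right] at h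
    have hm := (normalizer (R : Set G)).card_mul_index
    have hd2 : N.relIndex (normalizer (R : Set G)) ∣ Nat.card (normalizer (R : Set G)) :=
      Subgroup.relIndex_dvd_card _ _
    have hm2 := N.card_mul_index
    rw [hG] at hm2
    have h11i : 11 ∣ N.index :=
      (((by norm_num : Nat.Prime 11).dvd_mul).1 (by rw [hm2]; norm_num)).resolve_left hcon
    exact (h ▸ h11i).trans hd2
  obtain ⟨y, hy⟩ := exists_prime_orderOf_dvd_card' 11 h11N
  have hy' : orderOf (y : G) = 11 := by rw [Subgroup.orderOf_coe]; exact hy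
  have hQdvd : Nat.card R ∣ 16 ∨ Nat.card R ∣ 9 ∨ Nat.card R ∣ 5 := by
    have hd : Nat.card R ∣ 7920 := hG ▸ card_subgroup_dvd_card R
    obtain ⟨k, hk⟩ := IsPGroup.iff_card.1 Q.isPGroup'
    rw [hRcard, hk] at hd ⊢
    rcases Nat.eq_zero_or_pos k with rfl | hkpos
    · left; simp
    have hq11 : q ≠ 11 := fun h => hcon (h ▸ hqd)
    have hqs : q = 2 ∨ q = 3 ∨ q = 5 := by
      rcases prime_dvd_7920 hq ((dvd_pow_self q hkpos.ne').trans hd) with h | h | h | h
      · exact Or.inl h
      · exact Or.inr (Or.inl h)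
      · exact Or.inr (Or.inr h)
      · exact absurd h hq11
    rcases hqs with rfl | rfl | rfl
    · left
      exact (Nat.Coprime.pow_left k (by norm_num : Nat.Coprime 2 495)).dvd_of_dvd_mul_right
        (by norm_num; exact hd)
    · right; left
      exact (Nat.Coprime.pow_left k (by norm_num : Nat.Coprime 3 880)).dvd_of_dvd_mul_right
        (by norm_num; exact hd)
    · right; right
      exact (Nat.Coprime.pow_left k (by norm_num : Nat.Coprime 5 1584)).dvd_of_dvd_mul_right
        (by norm_num; exact hd)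
  have hcomm := commute_of_small hy' R hQdvd y.2
  have hq0 : q ∣ Nat.card R := by
    rw [hRcard]; exact Q.dvd_card_of_dvd_card hqd
  obtain ⟨x, hx⟩ := exists_prime_orderOf_dvd_card' q hq0
  have hx' : orderOf (x : G) = q := by rw [Subgroup.orderOf_coe]; exact hx
  have hxy : (y : G) * x = x * y := hcomm x x.2
  have hpow : ∀ (a : G) {r : ℕ} [Fact r.Prime], orderOf a = r →
      (∀ P : Sylow r G, Nat.card (P : Subgroup G) = r) → ∀ b : G, a * b = b * a →
      ∃ P : Sylow r G, b ∈ normalizer ((P : Subgroup G) : Set G) := by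
    intro a r hr ha hS b hb
    obtain ⟨P, hP⟩ := (IsPGroup.of_card (n := 1) (by rw [Nat.card_zpowers, ha, pow_one]) :
      IsPGroup r (zpowers a)).exists_le_sylow
    have heq : zpowers a = (P : Subgroup G) :=
      eq_of_le_of_card_ge hP (by rw [hS P, Nat.card_zpowers, ha])
    refine ⟨P, ?_⟩
    rw [← heq]
    have hbc : b ∈ centralizer ((zpowers a : Subgroup G) : Set G) := by
      rw [centralizer_eq_iInf]
      simp only [mem_iInf]
      rintro _ ⟨j, rfl⟩
      exact mem_centralizer_singleton_iff.2 ((Commute.zpow_left (show Commute a b from hb) j).symm.eq)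
    exact centralizer_le_normalizer _ hbc
  obtain ⟨P, hP⟩ := hpow y hy' (O7920.card_sylow_eleven hG) x hxy
  have h55 := O7920.card_normalizer_eq hG P
  rw [h11] at h55
  have hN55 : Nat.card (normalizer ((P : Subgroup G) : Set G)) = 55 := by omega
  have hq55 := orderOf_dvd_natCard (⟨x, hP⟩ : normalizer ((P : Subgroup G) : Set G))
  rw [orderOf_mk, hx', hN55] at hq55
  have hq11 : q ≠ 11 := fun h => hcon (h ▸ hqd)
  have key : ∀ q ∈ Nat.divisors 55, q.Prime → q ≠ 11 → q = 5 := by decide +kernel
  obtain rfl := key q (Nat.mem_divisors.2 ⟨hq55, by norm_num⟩) hq hq11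
  obtain ⟨P', hP'⟩ := hpow x hx' (O7920.card_sylow_five hG) y hxy.symm
  have h20 := O7920.card_normalizer_eq hG P'
  rw [h5] at h20
  have hN20 : Nat.card (normalizer ((P' : Subgroup G) : Set G)) = 20 := by omega
  have := orderOf_dvd_natCard (⟨y, hP'⟩ : normalizer ((P' : Subgroup G) : Set G))
  rw [orderOf_mk, hy', hN20] at this
  norm_num at this

/-- A group of order 7920 with 144 Sylow subgroups for eleven and 396 for five is simple. -/
theorem simple_of_counts (hG : Nat.card G = 7920) [Fact (Nat.Prime 11)] [Fact (Nat.Prime 5)]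
    (h11 : Nat.card (Sylow 11 G) = 144) (h5 : Nat.card (Sylow 5 G) = 396) : IsSimpleGroup G := by
  haveI : Nontrivial G := Finite.one_lt_card_iff_nontrivial.1 (by rw [hG]; norm_num)
  refine ⟨fun N hNn => or_iff_not_imp_left.2 fun hN => ?_⟩
  haveI := hNn
  have hd := eleven_dvd hG h11 h5 N hN
  have hmem : ∀ g : G, orderOf g = 11 → g ∈ N := by
    intro g hg
    obtain ⟨P⟩ : Nonempty (Sylow 11 G) := inferInstance
    obtain ⟨z, hz⟩ := exists_prime_orderOf_dvd_card' 11 hd
    have hz' : orderOf (z : G) = 11 := by rw [Subgroup.orderOf_coe]; exact hz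
    obtain ⟨A, hA⟩ := (IsPGroup.of_card (n := 1) (by rw [Nat.card_zpowers, hg, pow_one]) :
      IsPGroup 11 (zpowers g)).exists_le_sylow
    obtain ⟨B, hB⟩ := (IsPGroup.of_card (n := 1) (by rw [Nat.card_zpowers, hz', pow_one]) :
      IsPGroup 11 (zpowers (z : G))).exists_le_sylow
    have hBN : (B : Subgroup G) ≤ N := by
      rw [← eq_of_le_of_card_ge hB (by rw [O7920.card_sylow_eleven hG B, Nat.card_zpowers, hz'])]
      exact zpowers_le.2 z.2
    obtain ⟨c, rfl⟩ := MulAction.exists_smul_eq G B A
    have hmem' : g ∈ MulAut.conj c • (B : Subgroup G) := hA (mem_zpowers g)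
    rw [Subgroup.mem_pointwise_smul_iff_inv_smul_mem] at hmem'
    have h2 := hNn.conj_mem _ (hBN hmem') c
    simpa [MulAut.smul_def, mul_assoc] using h2
  -- all Sylow subgroups for eleven lie in `N`
  have hge : 1440 < Nat.card N := by
    have h1 := card_prime_cases hG (p := 11) (Or.inr rfl)
    rw [h11] at h1
    have hne : ∀ g : {g : G // orderOf g = 11}, (⟨g.1, hmem g.1 g.2⟩ : N) ≠ 1 := fun g h => by
      have h2 := g.2
      rw [show (g.1 : G) = 1 from congrArg Subtype.val h, orderOf_one] at h2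
      norm_num at h2
    let f : Option {g : G // orderOf g = 11} → N := fun o => o.elim 1 fun g => ⟨g.1, hmem g.1 g.2⟩
    have hf : Function.Injective f := by
      rintro (_ | a) (_ | b) h
      · rfl
      · exact absurd h.symm (hne b)
      · exact absurd h (hne a)
      · exact congrArg some (Subtype.ext (congrArg (fun z : N => (z : G)) h))
    have h := Nat.card_le_card_of_injective f hf
    rw [Finite.card_option, h1] at h
    omega
  haveI : Fact (Nat.Prime 11) := inferInstance
  obtain ⟨PN⟩ : Nonempty (Sylow 11 N) := inferInstance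
  by_contra hne
  have hlt : Nat.card N ≠ 7920 := fun h => hne (eq_top_of_card_eq N (h.trans hG.symm))
  have hdG : Nat.card N ∣ 7920 := hG ▸ card_subgroup_dvd_card N
  -- the Sylow normaliser
  obtain ⟨P⟩ : Nonempty (Sylow 11 G) := inferInstance
  have hPN : (P : Subgroup G) ≤ N := by
    intro a ha
    by_cases ha1 : a = 1
    · rw [ha1]; exact N.one_mem
    refine hmem a ?_
    have h := orderOf_dvd_natCard (⟨a, ha⟩ : (P : Subgroup G))
    rw [orderOf_mk, O7920.card_sylow_eleven hG P] at h
    exact ((by norm_num : Nat.Prime 11).eq_one_or_self_of_dvd _ h).resolve_left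
      fun h1 => ha1 (orderOf_eq_one_iff.1 h1)
  have hNP : normalizer ((P : Subgroup G) : Set G) ⊔ N = ⊤ := by
    have hh := Sylow.normalizer_sup_eq_top (P.subtype hPN)
    rwa [Sylow.coe_subtype, Subgroup.map_subgroupOf_eq_of_le hPN] at hh
  have h55 := O7920.card_normalizer_eq hG P
  rw [h11] at h55
  have hidx : N.index ∣ 5 := by
    have h := Subgroup.relIndex_sup_right (H := normalizer ((P : Subgroup G) : Set G)) (K := N)
    rw [hNP, Subgroup.relIndex_top_right] at h
    rw [h]
    have hsub := card_dvd_of_le (le_inf (Subgroup.le_normalizer) hPN :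
      (P : Subgroup G) ≤ normalizer ((P : Subgroup G) : Set G) ⊓ N)
    rw [O7920.card_sylow_eleven hG P] at hsub
    have hci := (N.subgroupOf (normalizer ((P : Subgroup G) : Set G))).card_mul_index
    rw [show Nat.card (normalizer ((P : Subgroup G) : Set G)) = 55 by omega] at hci
    have hsub' : 11 ∣ Nat.card (N.subgroupOf (normalizer ((P : Subgroup G) : Set G))) := by
      rw [← Nat.card_congr (subgroupOfEquivOfLe (inf_le_left :
        normalizer ((P : Subgroup G) : Set G) ⊓ N ≤ normalizer ((P : Subgroup G) : Set G))).toEquiv,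
        inf_subgroupOf_left] at hsub
      exact hsub
    obtain ⟨k, hk⟩ := hsub'
    refine ⟨k, ?_⟩
    rw [hk] at hci
    show 5 = N.relIndex _ * k
    rw [Subgroup.relIndex]
    nlinarith
  have hN1584 : Nat.card N = 1584 := by
    have hm := N.card_mul_index
    rw [hG] at hm
    rcases (Nat.dvd_prime (by norm_num : Nat.Prime 5)).1 hidx with h | h <;> rw [h] at hm <;> omega
  -- the normaliser inside `N` is abelian, so `N` has a complement
  have hNP11 : normalizer ((P.subtype hPN : Subgroup N) : Set N) ≤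
      centralizer ((P.subtype hPN : Subgroup N) : Set N) := by
    intro a ha
    have hcard : Nat.card (P.subtype hPN : Subgroup N) = 11 := by
      rw [Sylow.coe_subtype, Nat.card_congr (subgroupOfEquivOfLe hPN).toEquiv]
      exact O7920.card_sylow_eleven hG P
    refine SmallSimple.mem_centralizer_of_coprime _ hcard ha ?_
    have haG : (a : G) ∈ normalizer ((P : Subgroup G) : Set G) := by
      rw [mem_normalizer_iff]
      intro z
      rw [mem_normalizer_iff] at ha
      constructor
      · intro hz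
        have := (ha ⟨z, hPN hz⟩).1 (by simpa [Sylow.coe_subtype, mem_subgroupOf] using hz)
        simpa [Sylow.coe_subtype, mem_subgroupOf] using this
      · intro hz
        have hzN : z ∈ N := by
          have := hNn.conj_mem _ (hPN hz) (a : G)⁻¹
          simpa [mul_assoc] using this
        have := (ha ⟨z, hzN⟩).2 (by simpa [Sylow.coe_subtype, mem_subgroupOf] using hz)
        simpa [Sylow.coe_subtype, mem_subgroupOf] using this
    have hd55 := orderOf_dvd_natCard (⟨(a : G), haG⟩ : normalizer ((P : Subgroup G) : Set G))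
    rw [orderOf_mk, Subgroup.orderOf_coe, show Nat.card (normalizer ((P : Subgroup G) : Set G)) = 55 by omega]
      at hd55
    have hd1584 := orderOf_dvd_natCard a
    rw [hN1584] at hd1584
    have h11' : orderOf a ∣ 11 := by
      have := Nat.dvd_gcd hd55 hd1584
      norm_num at this
      exact this
    exact Nat.Coprime.coprime_dvd_left h11' (by norm_num)
  have hK := MonoidHom.ker_transferSylow_isComplement' (P.subtype hPN) hNP11
  set K := (MonoidHom.transferSylow (P.subtype hPN) hNP11).ker with hKdef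
  have hKcard : Nat.card K = 144 := by
    have := hK.card_mul
    rw [Sylow.coe_subtype, Nat.card_congr (subgroupOfEquivOfLe hPN).toEquiv,
      O7920.card_sylow_eleven hG P, hN1584] at this
    omega
  haveI : K.Characteristic := by
    refine Subgroup.characteristic_iff_map_le.2 fun φ => ?_
    rintro _ ⟨b, hb, rfl⟩
    have hd144 := orderOf_dvd_natCard (⟨b, hb⟩ : K)
    rw [orderOf_mk, hKcard] at hd144
    rw [hKdef, MonoidHom.mem_ker]
    have h1 : orderOf (MonoidHom.transferSylow (P.subtype hPN) hNP11 (φ.toMonoidHom b)) ∣ 144 :=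
      ((orderOf_map_dvd _ _).trans (orderOf_map_dvd _ _)).trans hd144
    have h2 := orderOf_dvd_natCard (MonoidHom.transferSylow (P.subtype hPN) hNP11 (φ.toMonoidHom b))
    have hc11 : Nat.card (P.subtype hPN : Subgroup N) = 11 := by
      rw [Sylow.coe_subtype, Nat.card_congr (subgroupOfEquivOfLe hPN).toEquiv]
      exact O7920.card_sylow_eleven hG P
    rw [hc11] at h2
    exact orderOf_eq_one_iff.1 (Nat.eq_one_of_dvd_coprimes (by norm_num) h1 h2)
  have hmap : Nat.card (K.map N.subtype) = 144 := by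
    rw [card_map_of_injective N.subtype_injective, hKcard]
  haveI : (K.map N.subtype).Normal := inferInstance
  have h11K := eleven_dvd hG h11 h5 (K.map N.subtype) (fun h => by
    rw [h, Subgroup.card_bot] at hmap; norm_num at hmap)
  rw [hmap] at h11K
  norm_num at h11K

/-- The smallest Mathieu group, as defined in the prelude. -/
theorem spor_m11_eq : Spor.M11 = Golay.stSetPt (Golay.toSet Golay.d0) (some 0) := by
  rw [← Golay.d0_eq]; rfl

theorem spor_m11_card : Nat.card Spor.M11 = 7920 := by
  rw [spor_m11_eq]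
  exact Golay.stSetPt_card Golay.d0_dodecad (by decide +kernel)

theorem spor_m11_simple : IsSimpleGroup Spor.M11 := by
  rw [spor_m11_eq]
  exact Golay.stSetPt_simple Golay.d0_dodecad (by decide +kernel)

/-- Every simple group of order 7920 is the smallest Mathieu group. -/
theorem iso_of_simple [IsSimpleGroup G] (hG : Nat.card G = 7920) : Spor.IsoM11 G := by
  obtain ⟨d, hd, p, hp, huniq⟩ := Points11.exists_equiv_standard.{u}
  obtain ⟨d', hd', p', hp', huniq'⟩ := Points11.exists_equiv_standard.{0}
  haveI := Golay.stSetPt_simple hd hp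
  haveI := spor_m11_simple
  obtain ⟨e⟩ := huniq G hG
  obtain ⟨e1⟩ := huniq' (Golay.stSetPt d p) (Golay.stSetPt_card hd hp)
  obtain ⟨e2⟩ := huniq' Spor.M11 spor_m11_card
  exact ⟨(e.trans e1).trans e2.symm⟩

theorem iso_of_counts (hG : Nat.card G = 7920) [Fact (Nat.Prime 11)] [Fact (Nat.Prime 5)]
    (h11 : Nat.card (Sylow 11 G) = 144) (h5 : Nat.card (Sylow 5 G) = 396) : Spor.IsoM11 G := by
  haveI := simple_of_counts hG h11 h5
  exact iso_of_simple hG

/-! ### The counts in a simple group of order 7920 -/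

section simple

variable [IsSimpleGroup G]

theorem sylow_eleven (hG : Nat.card G = 7920) [Fact (Nat.Prime 11)] : Nat.card (Sylow 11 G) = 144 := by
  obtain ⟨P⟩ : Nonempty (Sylow 11 G) := inferInstance
  have h := O7920.card_normalizer_eq hG P
  rw [(O7920.eleven hG P).2] at h
  omega

theorem five_data' (hG : Nat.card G = 7920) [Fact (Nat.Prime 5)] (P : Sylow 5 G) :
    centralizer ((P : Subgroup G) : Set G) = P ∧
      Nat.card (normalizer ((P : Subgroup G) : Set G)) = 20 := by
  haveI : Fact (Nat.Prime 11) := ⟨by norm_num⟩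
  rcases O7920.five hG P with h | h
  · exact h
  exfalso
  obtain ⟨t, ht⟩ := exists_prime_orderOf_dvd_card' 2 h
  have ht' : orderOf (t : G) = 2 := by rw [Subgroup.orderOf_coe]; exact ht
  have hle : (P : Subgroup G) ≤ centralizer ({(t : G)} : Set G) := fun a ha =>
    mem_centralizer_singleton_iff.2 (mem_centralizer_iff.1 t.2 a ha)
  have := card_dvd_of_le hle
  rw [O7920.card_sylow_five hG P, O7920.card_centralizer_involution hG ht'] at this
  norm_num at this

theorem sylow_five (hG : Nat.card G = 7920) [Fact (Nat.Prime 5)] : Nat.card (Sylow 5 G) = 396 := by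
  obtain ⟨P⟩ : Nonempty (Sylow 5 G) := inferInstance
  have h := O7920.card_normalizer_eq hG P
  rw [(five_data' hG P).2] at h
  omega

/-- Centralisers of the elements of prime order. -/
theorem card_centralizer_prime (hG : Nat.card G = 7920) {p : ℕ} (hp : p.Prime) {z : G}
    (hz : orderOf z = p) :
    (p = 2 ∧ Nat.card (centralizer ({z} : Set G)) = 48) ∨ (p = 3 ∧ Nat.card (centralizer ({z} : Set G)) = 18)
      ∨ (p = 5 ∧ Nat.card (centralizer ({z} : Set G)) = 5)
      ∨ (p = 11 ∧ Nat.card (centralizer ({z} : Set G)) = 11) := by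
  have hd : p ∣ 7920 := hz ▸ hG ▸ orderOf_dvd_natCard z
  haveI := Fact.mk hp
  obtain ⟨P, hP⟩ := (IsPGroup.of_card (n := 1) (by rw [Nat.card_zpowers, hz, pow_one]) :
    IsPGroup p (zpowers z)).exists_le_sylow
  have hzP : z ∈ (P : Subgroup G) := hP (mem_zpowers z)
  have hz1 : z ≠ 1 := fun h => by rw [h, orderOf_one] at hz; exact hp.ne_one hz.symm
  rcases prime_dvd_7920 hp hd with rfl | rfl | rfl | rfl
  · exact Or.inl ⟨rfl, O7920.card_centralizer_involution hG hz⟩
  · exact Or.inr (Or.inl ⟨rfl, Points11.card_centralizer_mem hG P hzP hz1⟩)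
  · refine Or.inr (Or.inr (Or.inl ⟨rfl, ?_⟩))
    rw [O7920.centralizer_singleton_eq hp _ (O7920.card_sylow_five hG P) hzP hz1, (five_data' hG P).1,
      O7920.card_sylow_five hG P]
  · refine Or.inr (Or.inr (Or.inr ⟨rfl, ?_⟩))
    rw [O7920.centralizer_singleton_eq hp _ (O7920.card_sylow_eleven hG P) hzP hz1, (O7920.eleven hG P).1,
      O7920.card_sylow_eleven hG P]

theorem dvd_card_conj_closed {H : Type*} [Group H] [Finite H] (s : Set H) (d : ℕ)
    (hs : ∀ a b : H, IsConj a b → a ∈ s → b ∈ s) (hd : ∀ a ∈ s, d ∣ (centralizer ({a} : Set H)).index) :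
    d ∣ Nat.card s := by
  classical
  haveI := Fintype.ofFinite H
  rw [Nat.card_eq_fintype_card, ← Set.toFinset_card,
    Finset.card_eq_sum_card_fiberwise (f := ConjClasses.mk) (t := Finset.univ) (fun _ _ => Finset.mem_univ _)]
  refine Finset.dvd_sum fun c _ => ?_
  obtain ⟨a, rfl⟩ := ConjClasses.mk_surjective c
  by_cases ha : a ∈ s
  · have : (s.toFinset.filter fun b => ConjClasses.mk b = ConjClasses.mk a) =
        (ConjClasses.mk a).carrier.toFinset := by
      ext b
      simp only [Finset.mem_filter, Set.mem_toFinset, ConjClasses.mem_carrier_iff_mk_eq]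
      exact ⟨fun h => h.2, fun h => ⟨hs _ _ (ConjClasses.mk_eq_mk_iff_isConj.1 h.symm) ha, h⟩⟩
    rw [this, ← Set.ncard_eq_toFinset_card', GS.ncard_carrier_eq_index]
    exact hd a ha
  · have : (s.toFinset.filter fun b => ConjClasses.mk b = ConjClasses.mk a) = ∅ := by
      refine Finset.filter_eq_empty_iff.2 fun b hb h => ha ?_
      exact hs _ _ (ConjClasses.mk_eq_mk_iff_isConj.1 h) (Set.mem_toFinset.1 hb)
    rw [this, Finset.card_empty]
    exact dvd_zero d

/-- The number of elements of a given order other than one is divisible by 165, 440, 1584 or 720. -/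
theorem dvd_card_orderOf (hG : Nat.card G = 7920) {n : ℕ} (hn : n ≠ 1) :
    ∃ d ∈ ({165, 440, 1584, 720} : Finset ℕ), d ∣ Nat.card {g : G // orderOf g = n} := by
  rcases Nat.eq_zero_or_pos n with rfl | hpos
  · refine ⟨165, by simp, ?_⟩
    haveI : IsEmpty {g : G // orderOf g = 0} := ⟨fun g => (orderOf_pos g.1).ne' g.2⟩
    rw [Nat.card_of_isEmpty]; exact dvd_zero _
  obtain ⟨p, hp, hpn⟩ := Nat.exists_prime_and_dvd hn
  by_cases hd : p ∣ 7920
  swap
  · refine ⟨165, by simp, ?_⟩
    haveI : IsEmpty {g : G // orderOf g = n} :=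
      ⟨fun g => hd (hpn.trans (g.2 ▸ hG ▸ orderOf_dvd_natCard g.1))⟩
    simp
  have step : ∀ m d : ℕ, m * d = 7920 →
      (∀ z : G, orderOf z = p → Nat.card (centralizer ({z} : Set G)) = m) →
      d ∣ Nat.card {g : G // orderOf g = n} := by
    intro m d hmd hm
    refine dvd_card_conj_closed {g : G | orderOf g = n} d
      (fun a b h ha => by
        show orderOf b = n
        rw [Points11.orderOf_of_isConj h.symm]; exact ha) (fun a ha => ?_)
    have hz : orderOf (a ^ (n / p)) = p := by
      have ha' : orderOf a = n := ha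
      rw [orderOf_pow, ha', Nat.gcd_eq_right (Nat.div_dvd_of_dvd hpn), Nat.div_div_self hpn hpos.ne']
    have hle : centralizer ({a} : Set G) ≤ centralizer ({a ^ (n / p)} : Set G) := fun b hb =>
      mem_centralizer_singleton_iff.2
        ((Commute.pow_right (show Commute b a from mem_centralizer_singleton_iff.1 hb) (n / p)).eq)
    have hdd := card_dvd_of_le hle
    rw [hm _ hz] at hdd
    obtain ⟨k, hk⟩ := hdd
    have hci := (centralizer ({a} : Set G)).card_mul_index
    rw [hG, ← hmd, hk] at hci
    refine ⟨k, ?_⟩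
    have hpos' : 0 < Nat.card (centralizer ({a} : Set G)) := Nat.card_pos
    exact Nat.eq_of_mul_eq_mul_left hpos' (by rw [hci]; ring)
  rcases prime_dvd_7920 hp hd with rfl | rfl | rfl | rfl
  · refine ⟨165, by simp, step 48 165 (by norm_num) fun z hz => ?_⟩
    rcases card_centralizer_prime hG hp hz with ⟨h, c⟩ | ⟨h, c⟩ | ⟨h, c⟩ | ⟨h, c⟩ <;> first | exact c | (norm_num at h)
  · refine ⟨440, by simp, step 18 440 (by norm_num) fun z hz => ?_⟩
    rcases card_centralizer_prime hG hp hz with ⟨h, c⟩ | ⟨h, c⟩ | ⟨h, c⟩ | ⟨h, c⟩ <;> first | exact c | (norm_num at h)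
  · refine ⟨1584, by simp, step 5 1584 (by norm_num) fun z hz => ?_⟩
    rcases card_centralizer_prime hG hp hz with ⟨h, c⟩ | ⟨h, c⟩ | ⟨h, c⟩ | ⟨h, c⟩ <;> first | exact c | (norm_num at h)
  · refine ⟨720, by simp, step 11 720 (by norm_num) fun z hz => ?_⟩
    rcases card_centralizer_prime hG hp hz with ⟨h, c⟩ | ⟨h, c⟩ | ⟨h, c⟩ | ⟨h, c⟩ <;> first | exact c | (norm_num at h)

end simple

end Cfsg.Agent.Lib.M11Recog
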